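import Mathlib
import Groth.Agent.EtaleAffine21.Nagata

/-!
# Algebras étale over affine space in characteristic `p`

An algebra étale over a polynomial ring over a field of characteristic `p` is finite étale over
some (other) polynomial ring in the same number of variables.
-/

set_option autoImplicit false

universe u

open MvPolynomial TensorProduct

namespace Groth.Agent.EtaleAffine21

variable {k : Type u} [Field k]

theorem exists_aeval_eq_zero_of_etale {n : ℕ} {C : Type u} [CommRing C]
    [Algebra (MvPolynomial (Fin n) k) C] [Algebra k C]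
    [IsScalarTower k (MvPolynomial (Fin n) k) C]
    [Algebra.Etale (MvPolynomial (Fin n) k) C] (w : Fin (n + 1) → C) :
    ∃ f : MvPolynomial (Fin (n + 1)) k, f ≠ 0 ∧ aeval w f = 0 := by
  by_contra! hcon
  have hinj : Function.Injective (aeval (R := k) w) := by
    rw [injective_iff_map_eq_zero]
    exact fun f hf => by_contra fun h => hcon f h hf
  let P := MvPolynomial (Fin n) k
  let K := FractionRing P
  let L := K ⊗[P] C
  let iC : C →ₐ[P] L := Algebra.TensorProduct.includeRight
  have hiC : Function.Injective iC :=
    Algebra.TensorProduct.includeRight_injective (IsFractionRing.injective P K)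
  have hLfin : Module.Finite K L := Algebra.FormallyUnramified.finite_of_free K L
  let g : MvPolynomial (Fin (n + 1)) k →+* L := (iC : C →+* L).comp (aeval (R := k) w).toRingHom
  have hg : Function.Injective g := hiC.comp hinj
  obtain ⟨q, hq, hqg⟩ := Ideal.exists_comap_eq_of_mem_minimalPrimes_of_injective (f := g) hg ⊥
    (by rw [IsDomain.minimalPrimes_eq_singleton_bot]; rfl)
  let F := L ⧸ q
  have : q.IsPrime := hq
  have hFfin : Module.Finite K F := Module.Finite.of_surjective (Ideal.Quotient.mkₐ K q).toLinearMap
    Ideal.Quotient.mk_surjective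
  have hPK : Algebra.IsAlgebraic P K := IsLocalization.isAlgebraic K (nonZeroDivisors P)
  have hPF : Algebra.IsAlgebraic P F := by
    have : Algebra.IsAlgebraic K F := Algebra.IsAlgebraic.of_finite K F
    exact Algebra.IsAlgebraic.trans P K F
  have hinjPF : Function.Injective (algebraMap P F) := by
    rw [IsScalarTower.algebraMap_eq P K F]
    exact (algebraMap K F).injective.comp (IsFractionRing.injective P K)
  have : FaithfulSMul P F := (faithfulSMul_iff_algebraMap_injective P F).mpr hinjPF
  let w' : Fin (n + 1) → F := fun i => Ideal.Quotient.mk q (iC (w i))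
  have hw' : AlgebraicIndependent k w' := by
    rw [algebraicIndependent_iff_injective_aeval, injective_iff_map_eq_zero]
    intro f hf
    have e : aeval (R := k) w' f = ((Ideal.Quotient.mkₐ k q).comp
        ((iC.restrictScalars k).comp (aeval (R := k) w))) f := by
      congr 1
      apply MvPolynomial.algHom_ext
      intro i
      simp [w']
    rw [e] at hf
    have hmem : g f ∈ q := Ideal.Quotient.eq_zero_iff_mem.mp hf
    have hmem' : f ∈ q.comap g := hmem
    rw [hqg] at hmem'
    exact hmem'
  have h1 := hw'.lift_cardinalMk_le_trdeg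
  rw [← trdeg_add_eq k P (A := F), MvPolynomial.trdeg_of_isDomain,
    trdeg_eq_zero, add_zero] at h1
  simp only [Cardinal.mk_fintype, Fintype.card_fin, Cardinal.lift_natCast, Nat.cast_le] at h1
  omega

/-- Substitution step: removes all the auxiliary `p`-th powers `t` while changing `x` only by
elements killed by the universal derivation. -/
theorem exists_integral_of_etale {n : ℕ} {C : Type u} [CommRing C]
    [Algebra (MvPolynomial (Fin n) k) C] [Algebra k C]
    [IsScalarTower k (MvPolynomial (Fin n) k) C]
    [Algebra.Etale (MvPolynomial (Fin n) k) C] (J : Ideal C) :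
    ∀ (m : ℕ) (v : Fin n → C) (t : Fin m → C),
      (∀ j, KaehlerDifferential.D k C (t j) = 0) → (∀ j, t j ∈ J) →
      Algebra.IsIntegral (Algebra.adjoin k (Set.range v ∪ Set.range t)) C →
      ∃ v' : Fin n → C,
        (∀ i, KaehlerDifferential.D k C (v' i) = KaehlerDifferential.D k C (v i)) ∧
        (∀ i, v' i - v i ∈ J) ∧
        Algebra.IsIntegral (Algebra.adjoin k (Set.range v')) C := by
  intro m
  induction m with
  | zero =>
    intro v t _ _ hint
    refine ⟨v, fun _ => rfl, fun i => by simp, ?_⟩
    have h : Set.range v ∪ Set.range t = Set.range v := by simp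
    rw [h] at hint
    exact hint
  | succ m ih =>
    intro v t ht htJ hint
    obtain ⟨f, hf, hf0⟩ := exists_aeval_eq_zero_of_etale (k := k) (Fin.cons (t 0) v)
    obtain ⟨r, hrpos, hr⟩ := Nagata.exists_exponents hf
    let v₁ : Fin n → C := fun i => v i - t 0 ^ r i
    have hD : ∀ i, KaehlerDifferential.D k C (v₁ i) = KaehlerDifferential.D k C (v i) := by
      intro i
      simp [v₁, Derivation.leibniz_pow, ht 0]
    have htint := hr C (t 0) v hf0
    suffices hint' : Algebra.IsIntegral
        (Algebra.adjoin k (Set.range v₁ ∪ Set.range fun j : Fin m => t j.succ)) C by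
      obtain ⟨v', hv', hv'J, hv'int⟩ := ih v₁ (fun j => t j.succ) (fun j => ht j.succ)
        (fun j => htJ j.succ) hint'
      refine ⟨v', fun i => (hv' i).trans (hD i), fun i => ?_, hv'int⟩
      have e : v' i - v i = (v' i - v₁ i) - t 0 ^ r i := by simp only [v₁]; ring
      rw [e]
      exact J.sub_mem (hv'J i) (J.pow_mem_of_mem (htJ 0) _ (hrpos i))
    set B := Algebra.adjoin k (Set.range v₁ ∪ Set.range fun j : Fin m => t j.succ)
    have hle : Algebra.adjoin k (Set.range v₁) ≤ B :=
      Algebra.adjoin_mono Set.subset_union_left
    have htB : IsIntegral B (t 0) := by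
      exact htint.map_of_comp_eq (Subalgebra.inclusion hle).toRingHom (RingHom.id C) rfl
    have hmem : ∀ x ∈ Set.range v₁ ∪ Set.range (fun j : Fin m => t j.succ), IsIntegral B x := fun x hx =>
      isIntegral_algebraMap (R := B) (A := C) (x := ⟨x, Algebra.subset_adjoin hx⟩)
    have hA : Algebra.adjoin k (Set.range v ∪ Set.range t) ≤
        (integralClosure B C).restrictScalars k := by
      refine Algebra.adjoin_le ?_
      rintro x (⟨i, rfl⟩ | ⟨j, rfl⟩)
      · show IsIntegral B (v i)
        have : v i = v₁ i + t 0 ^ r i := by simp [v₁]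
        rw [this]
        exact (hmem _ (Or.inl ⟨i, rfl⟩)).add (htB.pow _)
      · show IsIntegral B (t j)
        cases j using Fin.cases with
        | zero => exact htB
        | succ j => exact hmem _ (Or.inr ⟨j, rfl⟩)
    refine ⟨fun c => ?_⟩
    let ι : Algebra.adjoin k (Set.range v ∪ Set.range t) →+* integralClosure B C :=
      (Subalgebra.inclusion hA).toRingHom
    have hc : IsIntegral (integralClosure B C) c := by
      refine (hint.isIntegral c).map_of_comp_eq ι (RingHom.id C) ?_
      ext x
      rfl
    exact isIntegral_trans c hc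

theorem bijective_mapBaseChange_iff {n : ℕ} {C : Type u} [CommRing C]
    [Algebra (MvPolynomial (Fin n) k) C] [Algebra k C]
    [IsScalarTower k (MvPolynomial (Fin n) k) C] :
    Function.Bijective (KaehlerDifferential.mapBaseChange k (MvPolynomial (Fin n) k) C) ↔
      Function.Bijective (Fintype.linearCombination C fun i : Fin n =>
        KaehlerDifferential.D k C (algebraMap (MvPolynomial (Fin n) k) C (X i))) := by
  let b := Algebra.TensorProduct.basis C (KaehlerDifferential.mvPolynomialBasis k (Fin n))
  have h : (KaehlerDifferential.mapBaseChange k (MvPolynomial (Fin n) k) C).comp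
      b.equivFun.symm.toLinearMap =
      Fintype.linearCombination C fun i : Fin n =>
        KaehlerDifferential.D k C (algebraMap (MvPolynomial (Fin n) k) C (X i)) := by
    apply LinearMap.ext
    intro c
    rw [LinearMap.comp_apply, LinearEquiv.coe_coe, Module.Basis.equivFun_symm_apply, map_sum,
      Fintype.linearCombination_apply]
    refine Finset.sum_congr rfl fun i _ => ?_
    rw [map_smul, Algebra.TensorProduct.basis_apply, KaehlerDifferential.mvPolynomialBasis_apply,
      KaehlerDifferential.mapBaseChange_tmul, one_smul, KaehlerDifferential.map_D]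
  rw [← h, LinearMap.coe_comp]
  exact (Function.Bijective.of_comp_iff _ b.equivFun.symm.bijective).symm

theorem etale_of_bijective {n : ℕ} {C : Type u} [CommRing C]
    [Algebra (MvPolynomial (Fin n) k) C] [Algebra k C]
    [IsScalarTower k (MvPolynomial (Fin n) k) C]
    [Algebra.Smooth k C] [Algebra.FiniteType (MvPolynomial (Fin n) k) C]
    (h : Function.Bijective (KaehlerDifferential.mapBaseChange k (MvPolynomial (Fin n) k) C)) :
    Algebra.Etale (MvPolynomial (Fin n) k) C := by
  refine { formallyEtale := ⟨?_, ?_⟩
           finitePresentation := Algebra.FinitePresentation.of_finiteType.mp inferInstance }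
  · refine subsingleton_of_forall_eq 0 fun y => ?_
    obtain ⟨z, rfl⟩ := KaehlerDifferential.map_surjective k (MvPolynomial (Fin n) k) C y
    obtain ⟨a, rfl⟩ := h.2 z
    exact (KaehlerDifferential.exact_mapBaseChange_map k (MvPolynomial (Fin n) k) C).apply_apply_eq_zero a
  · refine subsingleton_of_forall_eq 0 fun y => ?_
    have h1 : Algebra.H1Cotangent.δ k (MvPolynomial (Fin n) k) C y = 0 :=
      h.1 (by
        rw [map_zero]
        exact (Algebra.H1Cotangent.exact_δ_mapBaseChange k (MvPolynomial (Fin n) k)
          C).apply_apply_eq_zero y)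
    obtain ⟨z, rfl⟩ := (Algebra.H1Cotangent.exact_map_δ k (MvPolynomial (Fin n) k) C y).mp h1
    rw [Subsingleton.elim z 0, map_zero]

/-- An algebra étale over affine space over a field of characteristic `p` admits a finite étale map
to affine space, congruent to the given one modulo any ideal `J` with integral quotient. -/
theorem exists_finite_etale_congr (p : ℕ) [Fact p.Prime] [CharP k p] (n : ℕ) (C : Type u)
    [CommRing C] [Algebra (MvPolynomial (Fin n) k) C] [Algebra k C]
    [IsScalarTower k (MvPolynomial (Fin n) k) C]
    [Algebra.Etale (MvPolynomial (Fin n) k) C] (J : Ideal C)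
    (hJ : ∀ c : C, ∃ h : Polynomial (MvPolynomial (Fin n) k), h.Monic ∧
      Polynomial.aeval c h ∈ J) :
    ∃ φ : MvPolynomial (Fin n) k →ₐ[k] C, φ.toRingHom.Finite ∧ φ.toRingHom.Etale ∧
      ∀ a, φ a - algebraMap (MvPolynomial (Fin n) k) C a ∈ J := by
  have hsm : Algebra.Smooth k C := by
    have : Algebra.Smooth k (MvPolynomial (Fin n) k) := ⟨inferInstance, inferInstance⟩
    exact Algebra.Smooth.comp k (MvPolynomial (Fin n) k) C
  have hft : Algebra.FiniteType k C := inferInstance
  obtain ⟨s, hs⟩ := hft.out
  let e := s.equivFin.symm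
  choose h hmon hmem using fun j : Fin s.card => hJ (e j : C)
  let g : Fin s.card → Polynomial (MvPolynomial (Fin n) k) := fun j => h j * Polynomial.X
  let w : Fin s.card → C := fun j => Polynomial.aeval (e j : C) (g j)
  let t : Fin s.card → C := fun j => w j ^ p
  let x : Fin n → C := fun i => algebraMap (MvPolynomial (Fin n) k) C (X i)
  have hppos : 0 < p := (Fact.out (p := p.Prime)).pos
  have htJ : ∀ j, t j ∈ J := fun j => by
    refine J.pow_mem_of_mem ?_ _ hppos
    simp only [w, g, map_mul]
    exact J.mul_mem_right _ (hmem j)
  have hp0 : (p : C) = 0 := by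
    rw [← map_natCast (algebraMap k C), CharP.cast_eq_zero, map_zero]
  have hDt : ∀ j, KaehlerDifferential.D k C (t j) = 0 := by
    intro j
    simp only [t, Derivation.leibniz_pow, ← Nat.cast_smul_eq_nsmul C, hp0, zero_smul]
  have hint : Algebra.IsIntegral (Algebra.adjoin k (Set.range x ∪ Set.range t)) C := by
    set A := Algebra.adjoin k (Set.range x ∪ Set.range t)
    let ρ : MvPolynomial (Fin n) k →ₐ[k] A :=
      MvPolynomial.aeval fun i => ⟨x i, Algebra.subset_adjoin (Or.inl ⟨i, rfl⟩)⟩
    have hρ : (algebraMap A C).comp ρ.toRingHom = algebraMap (MvPolynomial (Fin n) k) C := by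
      have : (A.val.comp ρ) = IsScalarTower.toAlgHom k (MvPolynomial (Fin n) k) C :=
        MvPolynomial.algHom_ext fun i => by simp [ρ, x]
      exact congrArg AlgHom.toRingHom this
    have : Algebra.adjoin k (s : Set C) ≤ (integralClosure A C).restrictScalars k := by
      refine Algebra.adjoin_le fun u hu => ?_
      show IsIntegral A u
      set j := s.equivFin ⟨u, hu⟩
      have hu' : (e j : C) = u := by simp [e, j]
      have hw : IsIntegral A (w j) := by
        refine IsIntegral.of_pow hppos ?_
        have hmem' : w j ^ p ∈ A := Algebra.subset_adjoin (Or.inr ⟨j, rfl⟩)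
        exact isIntegral_algebraMap (R := A) (A := C) (x := ⟨w j ^ p, hmem'⟩)
      let q : Polynomial (integralClosure A C) :=
        (g j).map ((algebraMap A (integralClosure A C)).comp ρ.toRingHom) -
          Polynomial.C ⟨w j, hw⟩
      have hu'' : IsIntegral (integralClosure A C) u := by
        rcases subsingleton_or_nontrivial C with hC | hC
        · rw [Subsingleton.elim u 0]
          exact isIntegral_zero
        refine ⟨q, ?_, ?_⟩
        · refine ((hmon j).mul Polynomial.monic_X |>.map _).sub_of_left
            (Polynomial.degree_C_le.trans_lt ?_)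
          rw [Polynomial.degree_map_eq_of_leadingCoeff_ne_zero _ (by
            simp [((hmon j).mul Polynomial.monic_X).leadingCoeff]), Polynomial.degree_mul,
            Polynomial.degree_X, Polynomial.degree_eq_natDegree (hmon j).ne_zero]
          exact_mod_cast Nat.succ_pos _
        · rw [Polynomial.eval₂_sub, Polynomial.eval₂_map, Polynomial.eval₂_C, ← RingHom.comp_assoc]
          show Polynomial.eval₂ ((algebraMap A C).comp ρ.toRingHom) u (g j) - w j = 0
          rw [hρ, sub_eq_zero, ← hu']
          rfl
      exact isIntegral_trans u hu''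
    rw [hs] at this
    exact ⟨fun c => this Algebra.mem_top⟩
  obtain ⟨v, hv, hvJ, hvint⟩ := exists_integral_of_etale J s.card x t hDt htJ hint
  refine ⟨aeval v, ?_⟩
  have hint' : (aeval (R := k) v).toRingHom.IsIntegral := by
    have hr : (algebraMap (aeval (R := k) v).range C).IsIntegral := by
      intro c
      have hc := hvint.isIntegral c
      rw [Algebra.adjoin_range_eq_range_aeval] at hc
      exact hc
    exact RingHom.IsIntegral.trans (aeval (R := k) v).rangeRestrict.toRingHom _
      (RingHom.isIntegral_of_surjective _ (AlgHom.rangeRestrict_surjective _)) hr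
  have hfin : (aeval (R := k) v).toRingHom.Finite := by
    refine hint'.to_finite ?_
    refine RingHom.FiniteType.of_comp_finiteType (f := algebraMap k (MvPolynomial (Fin n) k)) ?_
    rw [AlgHom.toRingHom_eq_coe, AlgHom.comp_algebraMap]
    exact RingHom.finiteType_algebraMap.mpr inferInstance
  refine ⟨hfin, ?_, fun a => ?_⟩
  swap
  · have : (Ideal.Quotient.mkₐ k J).comp (aeval (R := k) v) =
        (Ideal.Quotient.mkₐ k J).comp (IsScalarTower.toAlgHom k (MvPolynomial (Fin n) k) C) :=
      MvPolynomial.algHom_ext fun i => by
        show Ideal.Quotient.mk J (aeval (R := k) v (X i)) = Ideal.Quotient.mk J (x i)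
        rw [aeval_X]
        exact Ideal.Quotient.eq.mpr (hvJ i)
    exact Ideal.Quotient.eq.mp (DFunLike.congr_fun this a)
  have hbij : Function.Bijective (Fintype.linearCombination C fun i : Fin n =>
      KaehlerDifferential.D k C (x i)) :=
    bijective_mapBaseChange_iff.mp
      (KaehlerDifferential.tensorKaehlerEquivOfFormallyEtale k (MvPolynomial (Fin n) k) C).bijective
  have key : ∀ (algφ : Algebra (MvPolynomial (Fin n) k) C),
      @algebraMap _ _ _ _ algφ = (aeval (R := k) v).toRingHom →
      @Algebra.Etale (MvPolynomial (Fin n) k) C _ _ algφ := by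
    intro algφ halg
    letI := algφ
    have : IsScalarTower k (MvPolynomial (Fin n) k) C := IsScalarTower.of_algebraMap_eq fun a => by
      simp [halg]
    have : Module.Finite (MvPolynomial (Fin n) k) C := by
      rw [← RingHom.finite_algebraMap, halg]
      exact hfin
    refine etale_of_bijective (bijective_mapBaseChange_iff.mpr ?_)
    convert hbij using 3
    funext i
    simp [halg, hv i]
  exact key _ rfl

theorem exists_finite_etale (p : ℕ) [Fact p.Prime] [CharP k p] (n : ℕ) (C : Type u) [CommRing C]
    [Algebra (MvPolynomial (Fin n) k) C] [Algebra k C]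
    [IsScalarTower k (MvPolynomial (Fin n) k) C]
    [Algebra.Etale (MvPolynomial (Fin n) k) C] :
    ∃ φ : MvPolynomial (Fin n) k →ₐ[k] C, φ.toRingHom.Finite ∧ φ.toRingHom.Etale :=
  let ⟨φ, h1, h2, _⟩ := exists_finite_etale_congr p n C ⊤
    fun _ => ⟨1, Polynomial.monic_one, Submodule.mem_top⟩
  ⟨φ, h1, h2⟩

end Groth.Agent.EtaleAffine21
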