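import Mathlib
import Groth.Agent.EtaleAffine21.Basic
import Groth.Agent.Lib.Hensel.FiniteEtaleLift

/-!
# Finite étale covers of closed subschemes of affine space in characteristic `p`
-/

set_option autoImplicit false

universe u

open MvPolynomial TensorProduct

namespace Groth.Agent.EtaleAffine21

/-- A ring map onto `B`, compatible with the structure maps, gives a surjection from the base
change. -/
theorem exists_surjective_of_ringHom {R A B C : Type u} [CommRing R] [CommRing A] [CommRing B]
    [CommRing C] [Algebra R A] [Algebra A B] [Algebra R C] (f : C →+* B)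
    (hf : Function.Surjective f)
    (h : ∀ r, f (algebraMap R C r) = algebraMap A B (algebraMap R A r)) :
    ∃ ψ : A ⊗[R] C →ₐ[A] B, Function.Surjective ψ := by
  letI : Algebra R B := Algebra.compHom B (algebraMap R A)
  haveI : IsScalarTower R A B := IsScalarTower.of_algebraMap_eq fun _ => rfl
  let g : C →ₐ[R] B := { f with commutes' := h }
  refine ⟨Algebra.TensorProduct.lift (Algebra.ofId A B) g fun _ _ => .all _ _, fun b => ?_⟩
  obtain ⟨c, rfl⟩ := hf b
  exact ⟨1 ⊗ₜ c, by simp [g]⟩

theorem finite_etale_over_closed_dominated (k : Type u) [Field k] (p : ℕ)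
    [Fact p.Prime] [CharP k p] (n : ℕ) (I : Ideal (MvPolynomial (Fin n) k)) (B : Type u) [CommRing B]
    [Algebra (MvPolynomial (Fin n) k ⧸ I) B] [Module.Finite (MvPolynomial (Fin n) k ⧸ I) B]
    [Algebra.Etale (MvPolynomial (Fin n) k ⧸ I) B] :
    ∃ (C : Type u) (_ : CommRing C) (_ : Algebra (MvPolynomial (Fin n) k) C),
      Module.Finite (MvPolynomial (Fin n) k) C ∧ Algebra.Etale (MvPolynomial (Fin n) k) C ∧
      ∃ ψ : (MvPolynomial (Fin n) k ⧸ I) ⊗[MvPolynomial (Fin n) k] C →ₐ[MvPolynomial (Fin n) k ⧸ I] B,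
        Function.Surjective ψ := by
  let P := MvPolynomial (Fin n) k
  letI algPB : Algebra P B := Algebra.compHom B (Ideal.Quotient.mk I)
  haveI : IsScalarTower P (P ⧸ I) B := by
    exact IsScalarTower.of_algebraMap_eq (R := P) (S := P ⧸ I) (A := B) fun _ => rfl
  have hBfin : Module.Finite P B := Module.Finite.trans (P ⧸ I) B
  obtain ⟨C, _, _, f, hC, hf, -⟩ := GrothLib.Hensel.exists_etale_lift I B
  letI : Algebra k C := Algebra.compHom C (algebraMap k P)
  haveI : IsScalarTower k P C := IsScalarTower.of_algebraMap_eq fun _ => rfl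
  have hJ : ∀ c : C, ∃ h : Polynomial P, h.Monic ∧ Polynomial.aeval c h ∈ RingHom.ker f := by
    intro c
    obtain ⟨h, hm, h0⟩ := IsIntegral.of_finite P (f c)
    refine ⟨h, hm, ?_⟩
    rw [RingHom.mem_ker, ← Polynomial.aeval_algHom_apply]
    exact h0
  obtain ⟨φ, hfin, het, hcongr⟩ := exists_finite_etale_congr p n C (RingHom.ker f) hJ
  have key : ∀ (algφ : Algebra P C), @algebraMap _ _ _ _ algφ = φ.toRingHom →
      @Module.Finite P C _ _ algφ.toModule ∧ @Algebra.Etale P C _ _ algφ ∧
        ∃ ψ : (P ⧸ I) ⊗[P] C →ₐ[P ⧸ I] B, Function.Surjective ψ := by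
    have hfr : ∀ a : P, f (φ a) = algebraMap (P ⧸ I) B (algebraMap P (P ⧸ I) a) := by
      intro a
      have h1 : f (φ a - algebraMap P C a) = 0 := hcongr a
      rw [map_sub, sub_eq_zero, f.commutes] at h1
      exact h1
    let f' : C →+* B := f.toRingHom
    have hf' : Function.Surjective f' := hf
    have hfr' : ∀ a : P, f' (φ.toRingHom a) = algebraMap (P ⧸ I) B (algebraMap P (P ⧸ I) a) := hfr
    intro algφ halg
    refine ⟨?_, ?_, exists_surjective_of_ringHom f' hf' fun r => ?_⟩
    · rw [← RingHom.finite_algebraMap, halg]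
      exact hfin
    · rw [← RingHom.etale_algebraMap, halg]
      exact het
    · rw [halg]
      exact hfr' r
  exact ⟨C, inferInstance, φ.toRingHom.toAlgebra, key _ rfl⟩

end Groth.Agent.EtaleAffine21
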