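import Mathlib
import Groth.Agent.EtaleAffine21.Dominate

/-!
# Finite étale covers of closed subschemes in characteristic `p`
-/

set_option autoImplicit false

universe u

open TensorProduct

namespace Groth.Agent.EtaleAffine21

/-- Base change to `R` of the finite étale algebra produced over affine space. -/
theorem exists_finite_etale_of_congr {k : Type u} [Field k] (p : ℕ) [Fact p.Prime] [CharP k p]
    {n : ℕ} {R B C : Type u} [CommRing R] [CommRing B] [CommRing C] [Algebra R B]
    [Algebra (MvPolynomial (Fin n) k) R]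
    [Algebra (MvPolynomial (Fin n) k) C] [Algebra.Etale (MvPolynomial (Fin n) k) C] (f : C →+* B)
    (hf : ∀ a, f (algebraMap (MvPolynomial (Fin n) k) C a) =
      algebraMap R B (algebraMap (MvPolynomial (Fin n) k) R a))
    (hJ : ∀ c : C, ∃ h : Polynomial (MvPolynomial (Fin n) k), h.Monic ∧
      f (Polynomial.aeval c h) = 0) :
    ∃ (D : Type u) (_ : CommRing D) (_ : Algebra R D), Module.Finite R D ∧ Algebra.Etale R D ∧
      ∃ g : D →ₐ[R] B, ∀ c, f c ∈ g.range := by
  let P := MvPolynomial (Fin n) k
  letI : Algebra k C := Algebra.compHom C (algebraMap k P)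
  haveI : IsScalarTower k P C := IsScalarTower.of_algebraMap_eq fun _ => rfl
  obtain ⟨φ, hfin, het, hcongr⟩ := exists_finite_etale_congr p n C (RingHom.ker f) hJ
  have hfφ : ∀ a, f (φ.toRingHom a) = algebraMap R B (algebraMap P R a) := by
    intro a
    have h1 : f (φ a - algebraMap P C a) = 0 := hcongr a
    rw [map_sub, sub_eq_zero, hf] at h1
    exact h1
  have key : ∀ (algφ : Algebra P C), @algebraMap _ _ _ _ algφ = φ.toRingHom →
      ∃ (D : Type u) (_ : CommRing D) (_ : Algebra R D), Module.Finite R D ∧ Algebra.Etale R D ∧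
        ∃ g : D →ₐ[R] B, ∀ c, f c ∈ g.range := by
    intro algφ halg
    haveI : Module.Finite P C := by
      rw [← RingHom.finite_algebraMap, halg]
      exact hfin
    haveI : Algebra.Etale P C := by
      rw [← RingHom.etale_algebraMap, halg]
      exact het
    letI : Algebra P B := Algebra.compHom B (algebraMap P R)
    haveI : IsScalarTower P R B := IsScalarTower.of_algebraMap_eq fun _ => rfl
    let fC : C →ₐ[P] B :=
      { f with commutes' := fun a => (congrArg f (DFunLike.congr_fun halg a)).trans (hfφ a) }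
    refine ⟨R ⊗[P] C, inferInstance, inferInstance, inferInstance, inferInstance,
      Algebra.TensorProduct.lift (Algebra.ofId R B) fC fun _ _ => .all _ _, fun c => ?_⟩
    exact ⟨1 ⊗ₜ c, by simp [fC]⟩
  exact key φ.toRingHom.toAlgebra rfl

/-- Étale algebras lift along surjections of rings. -/
theorem exists_etale_lift_of_surjective {P A : Type u} [CommRing P] [CommRing A] (π : P →+* A)
    (hπ : Function.Surjective π) (B : Type u) [CommRing B] [Algebra A B] [Algebra.Etale A B] :
    ∃ (C : Type u) (_ : CommRing C) (_ : Algebra P C) (f : C →+* B), Algebra.Etale P C ∧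
      Function.Surjective f ∧ ∀ a, f (algebraMap P C a) = algebraMap A B (π a) := by
  let e := RingHom.quotientKerEquivOfSurjective hπ
  letI : Algebra (P ⧸ RingHom.ker π) A := e.toRingHom.toAlgebra
  haveI : Algebra.Etale (P ⧸ RingHom.ker π) A := by
    rw [← RingHom.etale_algebraMap]
    exact RingHom.Etale.of_bijective (f := e.toRingHom) e.bijective
  letI : Algebra (P ⧸ RingHom.ker π) B := ((algebraMap A B).comp e.toRingHom).toAlgebra
  haveI : IsScalarTower (P ⧸ RingHom.ker π) A B := IsScalarTower.of_algebraMap_eq fun _ => rfl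
  haveI : Algebra.Etale (P ⧸ RingHom.ker π) B := Algebra.Etale.comp _ A _
  letI : Algebra P B := ((algebraMap A B).comp π).toAlgebra
  haveI : IsScalarTower P (P ⧸ RingHom.ker π) B := by
    exact IsScalarTower.of_algebraMap_eq (R := P) (S := P ⧸ RingHom.ker π) (A := B) fun _ => rfl
  obtain ⟨C, _, _, f, hC, hf, -⟩ := GrothLib.Hensel.exists_etale_lift (RingHom.ker π) B
  exact ⟨C, inferInstance, inferInstance, f.toRingHom, hC, hf, fun a => f.commutes a⟩

theorem finite_etale_over_quotient_dominated (p : ℕ) [Fact p.Prime] (R A B : Type u)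
    [CommRing R] [CommRing A] [CommRing B] [CharP R p] [Algebra R A]
    (hRA : Function.Surjective (algebraMap R A)) [Algebra A B] [Module.Finite A B]
    [Algebra.Etale A B] :
    ∃ (C : Type u) (_ : CommRing C) (_ : Algebra R C), Module.Finite R C ∧ Algebra.Etale R C ∧
      ∃ ψ : A ⊗[R] C →ₐ[A] B, Function.Surjective ψ := by
  classical
  let k := ULift.{u} (ZMod p)
  letI : Field k := ULift.field
  haveI : CharP k p := charP_of_injective_ringHom
    (f := (ULift.ringEquiv.symm : ZMod p ≃+* k).toRingHom) (RingEquiv.injective _) p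
  letI : Algebra k R := ((ZMod.castHom dvd_rfl R).comp
    (ULift.ringEquiv : k ≃+* ZMod p).toRingHom).toAlgebra
  letI : Algebra k A := Algebra.compHom A (algebraMap k R)
  haveI : IsScalarTower k R A := IsScalarTower.of_algebraMap_eq fun _ => rfl
  obtain ⟨A₀, B₀, _, _, hA₀, hB₀, ⟨e⟩⟩ := Algebra.Etale.exists_subalgebra_fg (R := k) A B
  obtain ⟨s, hs⟩ := (inferInstance : Algebra.FiniteType A₀ B₀).out
  choose h hm h0 using fun b : B₀ => IsIntegral.of_finite A (e.symm ((1 : A) ⊗ₜ[A₀] b))
  obtain ⟨S₀, hS₀⟩ := hA₀
  let S : Finset A := S₀ ∪ s.biUnion fun b => (h b).coeffs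
  let π : MvPolynomial S k →ₐ[k] A := MvPolynomial.aeval Subtype.val
  let n := Fintype.card S
  let P := MvPolynomial (Fin n) k
  choose r hr using fun i : Fin n => hRA ((Fintype.equivFin S).symm i : A)
  letI : Algebra P R := (MvPolynomial.aeval (R := k) r).toRingHom.toAlgebra
  let q : P →ₐ[k] A := MvPolynomial.aeval fun i => algebraMap R A (r i)
  have hq : ∀ a, q a = algebraMap R A (algebraMap P R a) := by
    intro a
    have : q = (IsScalarTower.toAlgHom k R A).comp (MvPolynomial.aeval r) :=
      MvPolynomial.algHom_ext fun i => by simp [q]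
    rw [this]
    rfl
  let A₁ := q.range
  have hSmem : ∀ a ∈ S, a ∈ A₁ := fun a ha =>
    ⟨MvPolynomial.X (Fintype.equivFin S ⟨a, ha⟩), by
      show q _ = a
      rw [MvPolynomial.aeval_X, hr, Equiv.symm_apply_apply]⟩
  have hle : A₀ ≤ A₁ := by
    rw [← hS₀]
    exact Algebra.adjoin_le fun a ha => hSmem a (Finset.mem_union_left _ ha)
  letI : Algebra A₀ A₁ := (Subalgebra.inclusion hle).toRingHom.toAlgebra
  haveI : IsScalarTower A₀ A₁ A := IsScalarTower.of_algebraMap_eq fun _ => rfl
  let B₁ := A₁ ⊗[A₀] B₀
  let g : B₁ →+* B := e.symm.toRingEquiv.toRingHom.comp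
    (Algebra.TensorProduct.map (IsScalarTower.toAlgHom A₀ A₁ A) (AlgHom.id A₀ B₀)).toRingHom
  have hg : ∀ (a : A₁) (b : B₀), g (a ⊗ₜ b) = algebraMap A B a * e.symm (1 ⊗ₜ b) := by
    intro a b
    show e.symm (algebraMap A₁ A a ⊗ₜ b) = _
    rw [← e.symm.commutes, ← map_mul, Algebra.TensorProduct.algebraMap_apply,
      Algebra.TensorProduct.tmul_mul_tmul]
    simp
  obtain ⟨C₀, _, _, f, hC₀, hf, hfalg⟩ :=
    exists_etale_lift_of_surjective q.rangeRestrict.toRingHom q.rangeRestrict_surjective B₁
  letI : Algebra R B := ((algebraMap A B).comp (algebraMap R A)).toAlgebra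
  letI : Algebra P B := ((algebraMap R B).comp (algebraMap P R)).toAlgebra
  haveI : IsScalarTower R A B := IsScalarTower.of_algebraMap_eq fun _ => rfl
  have hgalg : ∀ a : P, g (f (algebraMap P C₀ a)) = algebraMap P B a := by
    intro a
    rw [hfalg]
    show g ((q.rangeRestrict a) ⊗ₜ 1) = algebraMap A B (algebraMap R A (algebraMap P R a))
    rw [hg, ← Algebra.TensorProduct.one_def, map_one, mul_one, ← hq]
    rfl
  have hint : ∀ x : B₁, IsIntegral P (g x) := by
    have hA₁ : ∀ a : A₁, IsIntegral P (algebraMap A B a) := by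
      rintro ⟨_, a, rfl⟩
      have : algebraMap A B (q a) = algebraMap P B a := by rw [hq]; rfl
      show IsIntegral P (algebraMap A B (q a))
      rw [this]
      exact isIntegral_algebraMap
    intro x
    induction x using TensorProduct.induction_on with
    | zero => rw [map_zero]; exact isIntegral_zero
    | add x y hx hy => rw [map_add]; exact hx.add hy
    | tmul a b =>
      rw [hg]
      refine (hA₁ a).mul ?_
      have hb : b ∈ Algebra.adjoin A₀ (s : Set B₀) := hs ▸ Algebra.mem_top
      induction hb using Algebra.adjoin_induction with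
      | mem b hb =>
        -- lift the integral equation to `P`
        have hlift : h b ∈ Polynomial.lifts q.toRingHom := by
          rw [Polynomial.lifts_iff_coeff_lifts]
          intro m
          rcases eq_or_ne ((h b).coeff m) 0 with h1 | h1
          · exact ⟨0, by rw [h1, map_zero]⟩
          · obtain ⟨y, hy⟩ := hSmem _ (Finset.mem_union_right S₀
              (Finset.mem_biUnion.mpr ⟨b, hb, Polynomial.coeff_mem_coeffs h1⟩))
            exact ⟨y, hy⟩
        rcases subsingleton_or_nontrivial A with hA | hA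
        · have : Subsingleton B := (algebraMap A B).codomain_trivial
          rw [Subsingleton.elim (e.symm (1 ⊗ₜ b)) 0]
          exact isIntegral_zero
        obtain ⟨H, hH, -, hHm⟩ := Polynomial.lifts_and_degree_eq_and_monic hlift (hm b)
        refine ⟨H, hHm, ?_⟩
        have hqB : (algebraMap A B).comp q.toRingHom = algebraMap P B := by
          refine RingHom.ext fun a => ?_
          show algebraMap A B (q a) = _
          rw [hq]
          rfl
        rw [← hqB, ← Polynomial.eval₂_map, hH]
        exact h0 b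
      | algebraMap a =>
        have e2 : e.symm ((1 : A) ⊗ₜ[A₀] algebraMap A₀ B₀ a) = algebraMap A B (a : A) := by
          rw [← e.symm.commutes, Algebra.algebraMap_eq_smul_one, ← TensorProduct.smul_tmul,
            Algebra.TensorProduct.algebraMap_apply, Algebra.smul_def, mul_one]
          rfl
        rw [e2]
        exact hA₁ ⟨a, hle a.2⟩
      | add x y _ _ hx hy => rw [TensorProduct.tmul_add, map_add]; exact hx.add hy
      | mul x y _ _ hx hy =>
        have e3 : e.symm ((1 : A) ⊗ₜ[A₀] (x * y)) = e.symm (1 ⊗ₜ x) * e.symm (1 ⊗ₜ y) := by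
          rw [← map_mul, Algebra.TensorProduct.tmul_mul_tmul, one_mul]
        rw [e3]
        exact hx.mul hy
  obtain ⟨D, _, _, hD, hDe, gD, hgD⟩ := exists_finite_etale_of_congr p (R := R) (B := B)
    (g.comp f)
    hgalg
    (fun c => by
      obtain ⟨H, hHm, hH0⟩ := hint (f c)
      refine ⟨H, hHm, ?_⟩
      show g (f (Polynomial.aeval c H)) = 0
      rw [← hH0, Polynomial.aeval_def, ← RingHom.comp_apply, Polynomial.hom_eval₂]
      congr 1
      exact RingHom.ext hgalg)
  refine ⟨D, inferInstance, inferInstance, hD, hDe, ?_⟩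
  refine exists_surjective_of_ringHom gD.toRingHom (fun b => ?_) fun r => gD.commutes r
  obtain ⟨t, rfl⟩ := e.symm.surjective b
  show e.symm t ∈ gD.range
  induction t using TensorProduct.induction_on with
  | zero => rw [map_zero]; exact zero_mem _
  | add x y hx hy => rw [map_add]; exact add_mem hx hy
  | tmul a b =>
    obtain ⟨r, rfl⟩ := hRA a
    obtain ⟨c, hc⟩ := hf ((1 : A₁) ⊗ₜ b)
    have h1 : e.symm ((1 : A) ⊗ₜ[A₀] b) ∈ gD.range := by
      have := hgD c
      rwa [RingHom.comp_apply, hc, hg, OneMemClass.coe_one,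
        map_one, one_mul] at this
    have h2 : algebraMap R A r ⊗ₜ[A₀] b = algebraMap A (A ⊗[A₀] B₀) (algebraMap R A r) * 1 ⊗ₜ b := by
      simp [Algebra.TensorProduct.algebraMap_apply]
    rw [h2, map_mul, e.symm.commutes, ← IsScalarTower.algebraMap_apply R A B]
    exact mul_mem (gD.range.algebraMap_mem r) h1

end Groth.Agent.EtaleAffine21
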